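import Mathlib.AlgebraicGeometry.Morphisms.Immersion
import Mathlib.AlgebraicGeometry.Morphisms.Separated
import Mathlib.AlgebraicGeometry.Morphisms.ClosedImmersion

/-! A separated morphism that is an immersion on each member of a dense open cover is an immersion. -/

set_option autoImplicit false
universe u

open CategoryTheory AlgebraicGeometry

namespace Groth.L13.ImmDense

theorem exists_open {X Y : Scheme.{u}} (f : X ⟶ Y) [IsSeparated f] (U : X.Opens) (hd : Dense (U : Set X))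
    [IsImmersion (U.ι ≫ f)] :
    ∃ W : Y.Opens, f ⁻¹ᵁ W = U ∧ IsClosedImmersion (f ∣_ W) := by
  let g := U.ι ≫ f
  let W := g.coborderRange
  have hUW : U ≤ f ⁻¹ᵁ W := fun x hx => by
    have := (g.liftCoborder ⟨x, hx⟩).2
    have h2 : W.ι (g.liftCoborder ⟨x, hx⟩) = f x := by
      rw [← Scheme.Hom.comp_apply, g.liftCoborder_ι]; rfl
    show f x ∈ W
    rw [← h2]
    exact this
  let u := X.homOfLE hUW
  have hu : u ≫ (f ∣_ W) = g.liftCoborder := by
    rw [← cancel_mono W.ι, Category.assoc, morphismRestrict_ι, Scheme.homOfLE_ι_assoc, g.liftCoborder_ι]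
  haveI : IsClosedImmersion (u ≫ (f ∣_ W)) := by rw [hu]; infer_instance
  haveI : IsClosedImmersion u := IsClosedImmersion.of_comp u (f ∣_ W)
  have hrange : ∀ z : (f ⁻¹ᵁ W : X.Opens), (z : X) ∈ U := by
    intro z
    have hdense : Dense ((f ⁻¹ᵁ W).ι ⁻¹' (U : Set X)) := hd.preimage (f ⁻¹ᵁ W).ι.isOpenEmbedding.isOpenMap
    have hsub : (f ⁻¹ᵁ W).ι ⁻¹' (U : Set X) ⊆ Set.range u := fun y hy => by
      refine ⟨⟨_, hy⟩, (f ⁻¹ᵁ W).ι.isOpenEmbedding.injective ?_⟩
      rw [← Scheme.Hom.comp_apply, Scheme.homOfLE_ι]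
      rfl
    have : z ∈ Set.range u := u.isClosedEmbedding.isClosed_range.closure_subset_iff.mpr hsub (hdense z)
    obtain ⟨w, rfl⟩ := this
    have h3 : (u w).1 = w.1 := by
      change (f ⁻¹ᵁ W).ι (u w) = _
      rw [← Scheme.Hom.comp_apply, Scheme.homOfLE_ι]
      rfl
    rw [h3]
    exact w.2
  have heq : f ⁻¹ᵁ W = U := le_antisymm (fun z hz => hrange ⟨z, hz⟩) hUW
  refine ⟨W, heq, ?_⟩
  haveI : IsIso u := by
    rw [show u = (X.isoOfEq heq.symm).hom by rw [← cancel_mono (f ⁻¹ᵁ W).ι, Scheme.homOfLE_ι, Scheme.isoOfEq_hom_ι]]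
    infer_instance
  rw [← IsIso.inv_hom_id_assoc u (f ∣_ W)]
  infer_instance

theorem isImmersion {X Y : Scheme.{u}} (f : X ⟶ Y) [IsSeparated f] {ι : Type*} (U : ι → X.Opens)
    (hU : ⨆ i, U i = ⊤) (hd : ∀ i, Dense (U i : Set X)) (h : ∀ i, IsImmersion ((U i).ι ≫ f)) :
    IsImmersion f := by
  choose W hW hc using fun i => haveI := h i; exists_open f (U i) (hd i)
  let Wt : Y.Opens := ⨆ i, W i
  have hr : Set.range f ⊆ (Wt : Set Y) := by
    rintro _ ⟨x, rfl⟩
    obtain ⟨i, hi⟩ := TopologicalSpace.Opens.mem_iSup.mp (show x ∈ ⨆ i, U i by rw [hU]; trivial)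
    have hx' : x ∈ f ⁻¹ᵁ W i := by rw [hW i]; exact hi
    exact TopologicalSpace.Opens.mem_iSup.mpr ⟨i, hx'⟩
  let l : X ⟶ Wt := IsOpenImmersion.lift Wt.ι f (by rw [Scheme.Opens.range_ι]; exact hr)
  have hl : l ≫ Wt.ι = f := IsOpenImmersion.lift_fac _ _ _
  haveI : IsClosedImmersion l := by
    have hcov : ⨆ i, Wt.ι ⁻¹ᵁ W i = ⊤ := by
      rw [← Scheme.Hom.preimage_iSup, eq_top_iff]
      intro x _
      exact x.2
    refine (IsZariskiLocalAtTarget.iff_of_iSup_eq_top (P := @IsClosedImmersion) _ hcov).mpr fun i => ?_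
    haveI := hc i
    have h1 : IsClosedImmersion ((l ≫ Wt.ι) ∣_ W i) := by rw [hl]; exact hc i
    rw [morphismRestrict_comp] at h1
    refine @IsClosedImmersion.of_comp _ _ _ (l ∣_ Wt.ι ⁻¹ᵁ W i) (Wt.ι ∣_ W i) ?_ ?_
    · exact h1
    · infer_instance
  rw [← hl]
  infer_instance

theorem isOpenImmersion {X Y : Scheme.{u}} (f : X ⟶ Y) [IsSeparated f] {ι : Type*} (U : ι → X.Opens)
    (hU : ⨆ i, U i = ⊤) (hd : ∀ i, Dense (U i : Set X)) (h : ∀ i, IsOpenImmersion ((U i).ι ≫ f)) :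
    IsOpenImmersion f := by
  haveI := isImmersion f U hU hd (fun i => haveI := h i; inferInstance)
  rw [IsOpenImmersion.iff_isIso_stalkMap]
  refine ⟨⟨f.isEmbedding, ?_⟩, fun x => ?_⟩
  · have : Set.range f = ⋃ i, Set.range ((U i).ι ≫ f) := by
      ext y
      simp only [Set.mem_iUnion, Set.mem_range]
      constructor
      · rintro ⟨x, rfl⟩
        obtain ⟨i, hi⟩ := TopologicalSpace.Opens.mem_iSup.mp (show x ∈ ⨆ i, U i by rw [hU]; trivial)
        exact ⟨i, ⟨x, hi⟩, rfl⟩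
      · rintro ⟨i, x, rfl⟩
        exact ⟨_, rfl⟩
    rw [this]
    exact isOpen_iUnion fun i => haveI := h i; ((U i).ι ≫ f).isOpenEmbedding.isOpen_range
  · obtain ⟨i, hi⟩ := TopologicalSpace.Opens.mem_iSup.mp (show x ∈ ⨆ i, U i by rw [hU]; trivial)
    haveI := h i
    let x' : (U i : Scheme.{u}) := ⟨x, hi⟩
    haveI h3 : IsIso ((U i).ι.stalkMap x') := inferInstance
    have h2 : IsIso (((U i).ι ≫ f).stalkMap x') := inferInstance
    rw [Scheme.Hom.stalkMap_comp] at h2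
    exact @IsIso.of_isIso_comp_right _ _ _ _ _ (f.stalkMap ((U i).ι x')) ((U i).ι.stalkMap x') h3 h2

end Groth.L13.ImmDense
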